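import Mathlib
import Cfsg.Agent.Lib.RelDeg.Det
import Cfsg.Agent.Lib.ChDeg.ThreeDeg
import Cfsg.Agent.Lib.ChDeg.Ito
import Cfsg.Agent.Lib.ChDeg.SylNorm
import Cfsg.Agent.Lib.FPF.Height
import Cfsg.Agent.Lib.SolvStruct.Util

/-! Solvable groups all of whose character degrees are squarefree have derived length at most four. -/

set_option autoImplicit false

namespace CfsgLib.SqF

open Cfsg CfsgLib.Char CfsgLib.ChDeg CfsgLib.RelDeg CfsgLib.Core Subgroup MulAction
open scoped commutatorElement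

variable {G : Type*} [Group G] [Finite G]

/-- A `p`-group acting on an abelian `p'`-group with all orbits of length at most `p`. -/
theorem ker_index_dvd {W : Type*} [CommGroup W] [MulDistribMulAction G W] {p : ℕ} (hp : p.Prime) {m : ℕ}
    (hm : m.Coprime p) (hW : ∀ w : W, w ^ m = 1) (F : Subgroup G) [F.Normal] (hF : IsPGroup p (G ⧸ F))
    (h1 : ∀ w : W, F ≤ stabilizer G w) (h2 : ∀ w : W, (stabilizer G w).index ∣ p) :
    (⨅ w : W, stabilizer G w).index ∣ p := by
  have := Fact.mk hp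
  have hn : ∀ w : W, (stabilizer G w).Normal := fun w => by
    rcases (Nat.dvd_prime hp).1 (h2 w) with e | e
    · rw [index_eq_one.1 e]; infer_instance
    have h3 : ((stabilizer G w).map (QuotientGroup.mk' F)).index = p := by
      rw [index_map_eq _ (QuotientGroup.mk'_surjective F) (by simpa using h1 w), e]
    obtain ⟨k, hk⟩ := IsPGroup.iff_card.1 hF
    have hk0 : k ≠ 0 := by
      rintro rfl
      exact hp.one_lt.ne' (Nat.dvd_one.1 (by simpa [h3, hk] using index_dvd_card ((stabilizer G w).map (QuotientGroup.mk' F))))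
    have h4 := normal_of_index_eq_minFac_card (H := (stabilizer G w).map (QuotientGroup.mk' F))
      (by rw [h3, hk, hp.pow_minFac hk0])
    have h5 := h4.comap (QuotientGroup.mk' F)
    rwa [comap_map_eq_self (by simpa using h1 w)] at h5
  by_cases h0 : ∀ w : W, stabilizer G w = ⊤
  · simp [h0]
  push Not at h0
  obtain ⟨x, hx⟩ := h0
  have hxi : (stabilizer G x).index = p := ((Nat.dvd_prime hp).1 (h2 x)).resolve_left (by simpa using hx)
  suffices h : ∀ y : W, stabilizer G x ≤ stabilizer G y by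
    rw [le_antisymm (iInf_le _ x) (le_iInf h), hxi]
  intro y
  by_contra hxy
  have hy : stabilizer G y ≠ ⊤ := fun e => hxy (e ▸ le_top)
  have hyi : (stabilizer G y).index = p := ((Nat.dvd_prime hp).1 (h2 y)).resolve_left (by simpa using hy)
  have hsup : stabilizer G y ⊔ stabilizer G x = ⊤ := by
    have h3 := index_dvd_of_le (le_sup_left : stabilizer G y ≤ stabilizer G y ⊔ stabilizer G x)
    rw [hyi] at h3
    refine index_eq_one.1 (((Nat.dvd_prime hp).1 h3).resolve_right fun e => hxy ?_)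
    exact le_sup_right.trans (eq_of_le_of_index_le le_sup_left (by rw [e, hyi])).ge
  have hfix : ∀ (z : W) (g : G), ∀ a ∈ stabilizer G z, a • g • z = g • z := fun z g a ha => by
    have h3 : g⁻¹ * a * g ∈ stabilizer G z := (hn z).conj_mem' a ha g
    rw [mem_stabilizer_iff, mul_smul, mul_smul, inv_smul_eq_iff] at h3
    exact h3
  have hle : stabilizer G (x * y) ≤ stabilizer G x ⊓ stabilizer G y := fun g hg => by
    rw [mem_stabilizer_iff, smul_mul'] at hg
    have hc : g • x * x⁻¹ = y * (g • y)⁻¹ := by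
      rw [mul_inv_eq_iff_eq_mul, mul_right_comm, eq_mul_inv_iff_mul_eq, hg, mul_comm]
    have h3 : stabilizer G y ⊔ stabilizer G x ≤ stabilizer G (g • x * x⁻¹) := sup_le
      (fun a ha => by rw [hc, mem_stabilizer_iff, smul_mul', smul_inv', hfix y g a ha, mem_stabilizer_iff.1 ha])
      (fun a ha => by rw [mem_stabilizer_iff, smul_mul', smul_inv', hfix x g a ha, mem_stabilizer_iff.1 ha])
    have h4 : g • (g • x * x⁻¹) = g • x * x⁻¹ := h3 (hsup ▸ mem_top g)
    have h5 : ∀ k : ℕ, g ^ k • x = (g • x * x⁻¹) ^ k * x := fun k => by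
      induction k with
      | zero => simp
      | succ k ih => rw [pow_succ', mul_smul, ih, smul_mul', smul_pow', h4, pow_succ, mul_assoc, inv_mul_cancel_right]
    obtain ⟨k, hk⟩ := hF (g : G ⧸ F)
    have h6 : g ^ p ^ k ∈ F := (QuotientGroup.eq_one_iff _).1 (by simpa using hk)
    have h7 := h5 (p ^ k)
    rw [mem_stabilizer_iff.1 (h1 x h6), eq_comm, mul_eq_right] at h7
    have h8 : g • x * x⁻¹ = 1 := by
      rw [← orderOf_eq_one_iff]
      exact Nat.eq_one_of_dvd_coprimes (hm.pow_right k) (orderOf_dvd_of_pow_eq_one (hW _))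
        (orderOf_dvd_of_pow_eq_one h7)
    rw [h8, eq_comm, mul_inv_eq_one] at hc
    exact ⟨mul_inv_eq_one.1 h8, hc.symm⟩
  have h9 := (index_dvd_of_le hle).trans (h2 _)
  have h10 : stabilizer G x ⊓ stabilizer G y = stabilizer G x :=
    eq_of_le_of_index_le inf_le_left (hxi ▸ Nat.le_of_dvd hp.pos h9)
  exact hxy (inf_eq_left.1 h10)

variable (h : ∀ χ, IsIrrCharacter G χ → Squarefree (charDegree χ))
include h

theorem sqf_normal (N : Subgroup G) [N.Normal] {θ : N → ℂ} (hθ : IsIrrCharacter N θ) :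
    Squarefree ((inertia N θ).index * charDegree θ) := by
  have := Fintype.ofFinite N
  obtain ⟨χ, hχ, h1⟩ := exists_irr_over N hθ
  exact (h χ hχ).squarefree_of_dvd (index_inertia_mul_dvd N hχ hθ h1)

omit h in
theorem dvd_of_sqf {p n k : ℕ} (hp : p.Prime) (h1 : Squarefree n) (h2 : n ∣ p ^ k) : n ∣ p := by
  obtain ⟨j, -, rfl⟩ := (Nat.dvd_prime_pow hp).1 h2
  rcases j with _ | _ | j
  · simp
  · simp
  · exact absurd (h1 p ⟨p ^ j, by ring⟩) (by simpa using hp.one_lt.ne')

theorem dS_pCore (p : ℕ) (hp : p.Prime) : dS (pCore p G) 2 = ⊥ := by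
  have := Fact.mk hp
  rw [dS_eq_bot_iff]
  refine derived_two_of_two_deg (m := p) fun θ hθ => ?_
  obtain ⟨k, hk⟩ := exists_deg_eq_pow (isPGroup_pCore p G) hθ
  exact (Nat.dvd_prime hp).1 (dvd_of_sqf hp ((sqf_normal h _ hθ).squarefree_of_dvd (dvd_mul_left _ _)) hk.dvd)

theorem dS_fitting : dS (fittingSubgroup G) 2 = ⊥ := by
  have key : ∀ (X : Nat.Primes → Subgroup G) (D : Subgroup G) [D.Normal], (∀ p, X p ≤ pCore p G) →
      (∀ p, ⁅X p, X p⁆ ≤ D) → ⁅⨆ p, X p, ⨆ p, X p⁆ ≤ D := fun X D _ h1 h2 => by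
    refine commutator_iSup_left_le (fun _ => le_normalizer_of_normal) fun p => ?_
    rw [commutator_comm]
    refine commutator_iSup_left_le (fun _ => le_normalizer_of_normal) fun q => ?_
    by_cases e : q = p
    · rw [e]; exact h2 p
    have := Fact.mk p.2
    refine (commutator_mono ((h1 q).trans (pCore_le_pPrimeCore_of_ne q.2 p.2 fun e' => e (Subtype.ext e')))
      (h1 p)).trans ((commutator_le_inf _ _).trans ?_)
    rw [inf_comm, pCore_inf_pPrimeCore]
    exact bot_le
  have h1 := key (fun p => pCore p G) (⨆ p : Nat.Primes, ⁅pCore p G, pCore p G⁆) (fun _ => le_rfl)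
    fun p => le_iSup (fun p : Nat.Primes => ⁅pCore p G, pCore p G⁆) p
  have h2 := key (fun p => ⁅pCore p G, pCore p G⁆) ⊥ (fun _ => commutator_le_left _ _) fun p => by
    have h3 := dS_pCore h p p.2
    rw [dS_succ, dS_one] at h3
    exact h3.le
  rw [fittingSubgroup_eq_iSup_pCore, eq_bot_iff, dS_succ, dS_one]
  exact (commutator_mono h1 h1).trans h2

omit h in
theorem exists_lin {Q : Subgroup G} {y : G} (hy : y ∈ Q) (h1 : y ∉ ⁅Q, Q⁆) : ∃ l : Lin Q, l.hom ⟨y, hy⟩ ≠ 1 := by
  obtain ⟨χ, hχ, h2, h3⟩ := exists_irr_le_cker_not_mem (_root_.commutator Q) (g := ⟨y, hy⟩) fun e => h1 (by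
    rw [← map_subtype_commutator]; exact ⟨_, e, rfl⟩)
  obtain ⟨l, rfl⟩ := exists_co (isCharacter_of_isIrr hχ) ((deg_eq_one_iff_commutator_le hχ).2 h2)
  refine ⟨l, fun e => h3 ((mem_cker (isCharacter_of_isIrr hχ)).2 ?_)⟩
  simp [co, e]

omit h in
/-- An element of coprime order fixing all linear characters of a nilpotent normal subgroup centralises it. -/
theorem mem_centralizer_of_lin {Q : Subgroup G} [Q.Normal] (hQ : Group.IsNilpotent Q) {g : G}
    (hc : (orderOf g).Coprime (Nat.card Q)) (h1 : ∀ l : Lin Q, g • l = l) : g ∈ centralizer (Q : Set G) := by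
  have h2 : ⁅Q, zpowers g⁆ ≤ ⁅Q, Q⁆ := commutator_le.2 fun x hx a ha => by
    have h3 : ⁅x, a⁆ ∈ Q := commutator_le_left Q ⊤ (commutator_mem_commutator hx (mem_top a))
    by_contra e
    obtain ⟨l, hl⟩ := exists_lin h3 e
    have h4 : a⁻¹ • l = l := (zpowers_le.2 (show g ∈ stabilizer G l from h1 l)) (inv_mem ha)
    apply hl
    have h5 : (⟨⁅x, a⁆, h3⟩ : Q) = ⟨x, hx⟩ * (MulAut.conjNormal a⁻¹⁻¹ ⟨x, hx⟩)⁻¹ := by
      ext; simp [commutatorElement_def, mul_assoc]
    rw [h5, map_mul, map_inv, ← smul_hom_apply, h4, mul_inv_cancel]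
  have h3 := Coprime.le_centralizer_of_commutator_le_frattini (K := Q) (A := zpowers g)
    (by rw [Nat.card_zpowers]; exact hc.coprime_dvd_right (card_subgroup_dvd_card _))
    (h2.trans (by rw [← map_subtype_commutator]; exact map_mono commutator_le_frattini_of_isNilpotent))
  exact h3 (mem_zpowers g)

theorem card_pCore_dvd (p : ℕ) (hp : p.Prime) :
    haveI := fittingSubgroup_normal G
    Nat.card (pCore p (G ⧸ fittingSubgroup G)) ∣ p := by
  have := Fact.mk hp
  have := fittingSubgroup_normal G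
  have := isNilpotent_fittingSubgroup G
  set F := fittingSubgroup G with hF
  set K := (pCore p (G ⧸ F)).comap (QuotientGroup.mk' F) with hK
  set Q := pPrimeCore p G ⊓ F with hQ
  have hFK : F ≤ K := fun x hx => by
    rw [hK, mem_comap, QuotientGroup.mk'_apply, (QuotientGroup.eq_one_iff x).2 hx]; exact one_mem _
  have hKp : ∀ g ∈ K, ∃ k, g ^ p ^ k ∈ F := fun g hg => by
    obtain ⟨k, hk⟩ := isPGroup_pCore p (G ⧸ F) ⟨_, hg⟩
    exact ⟨k, (QuotientGroup.eq_one_iff _).1 (by simpa using congrArg Subtype.val hk)⟩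
  have hQc : (Nat.card Q).Coprime p :=
    (coprime_card_pPrimeCore p G).coprime_dvd_left (card_dvd_of_le inf_le_left)
  have hFQ : ∀ g ∈ F, ∃ k, g ^ p ^ k ∈ Q := fun g hg => by
    rw [hF, fittingSubgroup_eq_pCore_sup hp, ← SetLike.mem_coe, mul_normal] at hg
    obtain ⟨a, ha, b, hb, rfl⟩ := hg
    obtain ⟨k, hk⟩ := isPGroup_pCore p G ⟨a, ha⟩
    have hk' : a ^ p ^ k = 1 := by simpa using congrArg Subtype.val hk
    have hab : Commute a b := (pCore_le_centralizer_pPrimeCore ha b hb.1).symm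
    exact ⟨k, by rw [hab.mul_pow, hk', one_mul]; exact pow_mem hb _⟩
  have hFs : ∀ l : Lin Q, F ≤ stabilizer G l := fun l => by
    refine (fittingSubgroup_eq_pCore_sup hp).le.trans (sup_le (fun a ha => MonoidHom.ext fun n => ?_) fun a ha => MonoidHom.ext fun n => ?_)
    · change l.hom (MulAut.conjNormal a⁻¹ n) = l.hom n
      congr 1
      ext
      simp [mul_assoc, pCore_le_centralizer_pPrimeCore ha n n.2.1]
    · change l.hom (MulAut.conjNormal a⁻¹ n) = l.hom n
      rw [show MulAut.conjNormal a⁻¹ n = (⟨a, ha⟩ : Q)⁻¹ * n * ⟨a, ha⟩ by ext; simp]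
      simp
  have hP : IsPGroup p (K ⧸ F.subgroupOf K) := fun x => by
    obtain ⟨x, rfl⟩ := QuotientGroup.mk_surjective x
    obtain ⟨k, hk⟩ := hKp x x.2
    exact ⟨k, by rw [← QuotientGroup.mk_pow, QuotientGroup.eq_one_iff]; exact hk⟩
  have h1 := ker_index_dvd (G := K) (W := Lin Q) hp hQc lin_pow_card (F.subgroupOf K) hP
    (fun l x hx => hFs l hx) fun l => by
      obtain ⟨k, hk⟩ := IsPGroup.iff_card.1 hP
      refine dvd_of_sqf hp (k := k) (((sqf_normal h Q (isIrr_co l)).squarefree_of_dvd (dvd_mul_right _ _)).squarefree_of_dvd ?_) ?_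
      · rw [inertia_co]
        change (stabilizer G l).relIndex K ∣ _
        rw [← relIndex_sup_of_normal]
        exact relIndex_dvd_index_of_le le_sup_left
      · rw [← hk]
        exact index_dvd_of_le fun x hx => hFs l hx
  have hC : K ⊓ centralizer (Q : Set G) ≤ F := le_fittingSubgroup
    (FPF.isNilpotent_of_le_centralizer (V := Q) inf_le_right (IsPGroup.isNilpotent (p := p) (by
      rintro ⟨_, g, hg, rfl⟩
      obtain ⟨k, hk⟩ := hKp g hg.1
      obtain ⟨j, hj⟩ := hFQ _ hk
      refine ⟨k + j, Subtype.ext ?_⟩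
      simp only [SubmonoidClass.mk_pow, OneMemClass.coe_one, QuotientGroup.mk'_apply]
      rw [← QuotientGroup.mk_pow, QuotientGroup.eq_one_iff, pow_add, pow_mul]
      exact hj)))
  have h2 : (⨅ l : Lin Q, stabilizer K l) ≤ F.subgroupOf K := fun g hg => by
    obtain ⟨j, m, hm, ho⟩ := Nat.exists_eq_pow_mul_and_not_dvd (orderOf_pos (g : G)).ne' p hp.one_lt.ne'
    have h3 : (g : G) ^ m ∈ F := hC ⟨pow_mem g.2 m, mem_centralizer_of_lin
      (isNilpotent_of_le (inf_le_right : Q ≤ F)) ((hQc.symm.pow_left j).coprime_dvd_left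
        (orderOf_dvd_of_pow_eq_one (by rw [← pow_mul, mul_comm, ← ho, pow_orderOf_eq_one])))
      fun l => (mem_iInf.1 (pow_mem hg m) l)⟩
    obtain ⟨k, hk⟩ := hKp g g.2
    have h4 : ((g : G) : G ⧸ F) = 1 := orderOf_eq_one_iff.1 (Nat.eq_one_of_dvd_coprimes
      (((Nat.Prime.coprime_iff_not_dvd hp).2 hm).symm.pow_right k)
      (orderOf_dvd_of_pow_eq_one (by rwa [← QuotientGroup.mk_pow, QuotientGroup.eq_one_iff]))
      (orderOf_dvd_of_pow_eq_one (by rwa [← QuotientGroup.mk_pow, QuotientGroup.eq_one_iff])))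
    exact (QuotientGroup.eq_one_iff (g : G)).1 h4
  have h3 := (index_dvd_of_le h2).trans h1
  rwa [show (F.subgroupOf K).index = F.relIndex K from rfl, ← QuotientGroup.ker_mk' F, relIndex_ker,
    map_comap_eq_self_of_surjective (QuotientGroup.mk'_surjective F)] at h3

theorem derived_four [Group.IsSolvable G] : derivedSeries G 4 = ⊥ := by
  have := fittingSubgroup_normal G
  set H := G ⧸ fittingSubgroup G
  have h1 : _root_.commutator H ≤ centralizer (fittingSubgroup H : Set H) := by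
    rw [le_centralizer_iff, fittingSubgroup_eq_iSup_pCore H]
    refine iSup_le fun p => le_centralizer_iff.1 ?_
    have := Fact.mk p.2
    have := isCyclic_of_card_dvd_prime (card_pCore_dvd h p p.2)
    exact SolvStruct.commutator_le_centralizer_of_cyclic _
  have h2 : derivedSeries H 2 = ⊥ := commutator_eq_bot_iff_le_centralizer.2
    (h1.trans (centralizer_le (h1.trans centralizer_fittingSubgroup_le)))
  rw [← map_derivedSeries_eq (QuotientGroup.mk'_surjective _), Subgroup.map_eq_bot_iff, QuotientGroup.ker_mk'] at h2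
  exact eq_bot_iff.2 ((derivedSeries_le_dS (i := 2) (j := 0) (h2.trans (dS_zero _).ge) 2).trans (dS_fitting h).le)

end CfsgLib.SqF
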